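import Groth.Agent.HilbStab.BC.Euler
import Mathlib.AlgebraicGeometry.Morphisms.Proper

/-!
# The base change `Curv2.bc` and cohomology
-/

universe u

open CategoryTheory Limits AlgebraicGeometry

namespace Groth.HilbStab.BC

open Groth.CohBase

variable (k : Type u) [Field k] (X : Scheme.{u}) [X.Over (Spec (CommRingCat.of k))]
  (K : Type u) [Field K] [Algebra k K]

/-- The structure of `K`-scheme on the base change. -/
noncomputable abbrev overBC : (Curv2.bc k X K).Over (Spec (CommRingCat.of K)) := ⟨Curv2.bcSnd k X K⟩

theorem isBC_bc : letI := overBC k X K; IsBC (A := k) (A' := K) (Curv2.bcFst k X K) :=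
  IsPullback.of_hasPullback _ _

theorem isSeparated_of_proper [IsSeparated (X ↘ Spec (CommRingCat.of k))] : X.IsSeparated := by
  rw [Scheme.isSeparated_iff, show terminal.from X =
    (X ↘ Spec (CommRingCat.of k)) ≫ terminal.from _ from Subsingleton.elim _ _]
  infer_instance

variable [IsProper (X ↘ Spec (CommRingCat.of k))] (F : X.Modules) [F.IsQuasicoherent]

theorem subsingleton_HH_bc_iff (p : ℕ) :
    Subsingleton (Coh.HH (Curv2.bc k X K) ((Scheme.Modules.pullback (Curv2.bcFst k X K)).obj F) p) ↔
      Subsingleton (Coh.HH X F p) := by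
  letI := overBC k X K
  have : CompactSpace X := QuasiCompact.compactSpace_of_compactSpace (X ↘ Spec (CommRingCat.of k))
  have := isSeparated_of_proper k X
  exact subsingleton_HH_baseChange_iff (isBC_bc k X K) F p

theorem euler_bc :
    @Curv2.euler K _ (Curv2.bc k X K) ⟨Curv2.bcSnd k X K⟩
      ((Scheme.Modules.pullback (Curv2.bcFst k X K)).obj F) = Curv2.euler k X F := by
  letI := overBC k X K
  have : CompactSpace X := QuasiCompact.compactSpace_of_compactSpace (X ↘ Spec (CommRingCat.of k))
  have := isSeparated_of_proper k X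
  exact euler_baseChange (isBC_bc k X K) F

end Groth.HilbStab.BC
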