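import Groth.Agent.CohBase.BaseChangeModel
import Groth.Agent.CohBase.CxModel
import Groth.Agent.CohBase.RankTheory
import Groth.Prelude.Def_CurvBase

/-!
# Cohomology dimensions under extension of the base field
-/

universe u

open CategoryTheory Limits AlgebraicGeometry TopologicalSpace Opposite
open scoped TensorProduct

namespace Groth.HilbStab.BC

open Groth.CohBase Groth.CohBase.CxRank

variable {k K : Type u} [Field k] [Field K] [Algebra k K] {X X' : Scheme.{u}}
  [X.Over (Spec (CommRingCat.of k))] [X'.Over (Spec (CommRingCat.of K))]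

section Kernel

variable (C : CochainComplex (ModuleCat.{u} k) ℤ) (j : ℤ)

/-- A cohomology class of the tensored complex, as an element of the extended kernel. -/
noncomputable def kerComm (x : (CohIII.TFun C j).obj (ModuleCat.of k K)) :
    LinearMap.ker ((dq C j).baseChange K) :=
  ⟨TensorProduct.comm k (Qc C j) K (tKerEquiv C (ModuleCat.of k K) j x : Qc C j ⊗[k] K), by
    have hx := (tKerEquiv C (ModuleCat.of k K) j x).2
    rw [LinearMap.mem_ker] at hx ⊢
    have h : ∀ y : Qc C j ⊗[k] K, (dq C j).baseChange K (TensorProduct.comm k _ _ y) =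
        TensorProduct.comm k _ _ ((dq C j).rTensor K y) := fun y => by
      induction y using TensorProduct.induction_on with
      | zero => simp
      | tmul s a => simp
      | add p q hp hq => simp [hp, hq]
    exact (h _).trans ((congrArg (TensorProduct.comm k _ _) hx).trans (map_zero _))⟩

lemma kerComm_add (x y : (CohIII.TFun C j).obj (ModuleCat.of k K)) :
    kerComm C j (x + y) = kerComm C j x + kerComm C j y := by
  refine Subtype.ext ?_
  change TensorProduct.comm k (Qc C j) K (tKerEquiv C (ModuleCat.of k K) j (x + y) : Qc C j ⊗[k] K) = _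
  simp only [map_add, Submodule.coe_add]
  rfl

lemma kerComm_bijective : Function.Bijective (kerComm (K := K) C j) := by
  refine ⟨fun x y h => (tKerEquiv C (ModuleCat.of k K) j).injective (Subtype.ext
    ((TensorProduct.comm k (Qc C j) K).injective (congrArg Subtype.val h))), fun z => ?_⟩
  have h : ∀ y : K ⊗[k] Qc C j, (dq C j).rTensor K ((TensorProduct.comm k _ _).symm y) =
      (TensorProduct.comm k _ _).symm ((dq C j).baseChange K y) := fun y => by
    induction y using TensorProduct.induction_on with
    | zero => simp
    | tmul s a => simp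
    | add p q hp hq => simp only [map_add, hp, hq]
  refine ⟨(tKerEquiv C (ModuleCat.of k K) j).symm ⟨(TensorProduct.comm k _ _).symm z.1, ?_⟩, ?_⟩
  · exact LinearMap.mem_ker.2 ((h _).trans
      ((congrArg _ (LinearMap.mem_ker.1 z.2)).trans (map_zero _)))
  · refine Subtype.ext ?_
    change TensorProduct.comm k (Qc C j) K (tKerEquiv C (ModuleCat.of k K) j
      ((tKerEquiv C (ModuleCat.of k K) j).symm _) : Qc C j ⊗[k] K) = z.1
    rw [LinearEquiv.apply_symm_apply, LinearEquiv.apply_symm_apply]

lemma kerComm_mul (b : K) (x : (CohIII.TFun C j).obj (ModuleCat.of k K)) :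
    kerComm C j ((CohIII.TFun C j).map (ModuleCat.ofHom (LinearMap.mul k K b)) x) =
      b • kerComm C j x := by
  refine Subtype.ext ?_
  change TensorProduct.comm k (Qc C j) K (tKerEquiv C (ModuleCat.of k K) j _ : Qc C j ⊗[k] K) = _
  rw [tKerEquiv_map]
  change TensorProduct.comm k (Qc C j) K
      ((LinearMap.mul k K b).lTensor (Qc C j) (tKerEquiv C (ModuleCat.of k K) j x : Qc C j ⊗[k] K)) =
    b • TensorProduct.comm k (Qc C j) K (tKerEquiv C (ModuleCat.of k K) j x : Qc C j ⊗[k] K)
  induction (tKerEquiv C (ModuleCat.of k K) j x : Qc C j ⊗[k] K) using TensorProduct.induction_on with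
  | zero => simp
  | tmul s a => simp [TensorProduct.smul_tmul']
  | add p q hp hq => simp only [map_add, smul_add, hp, hq]

end Kernel

variable {g : X' ⟶ X}

/-- Extension of the base field does not change the dimension of cohomology. -/
theorem finrank_HH_baseChange (hsq : IsBC (A := k) (A' := K) g) [CompactSpace X] [X.IsSeparated]
    (F : X.Modules) [F.IsQuasicoherent] (p : ℕ) :
    Module.finrank K (Coh.HH X' ((Scheme.Modules.pullback g).obj F) p) =
      Module.finrank k (Coh.HH X F p) := by
  obtain ⟨G⟩ := exists_goodCover X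
  set C := cxA k G.U F
  obtain ⟨e, he⟩ := exists_bcEquiv hsq F G p
  let ψ₀ := Equiv.ofBijective (kerComm (K := K) C (p : ℤ)) (kerComm_bijective C (p : ℤ))
  let ψ : Coh.HH X' ((Scheme.Modules.pullback g).obj F) p ≃ₗ[K]
      LinearMap.ker ((dq C (p : ℤ)).baseChange K) :=
    { toFun := fun h => kerComm C (p : ℤ) (e.symm h)
      invFun := fun z => e (ψ₀.symm z)
      map_add' := fun a b => by rw [map_add, kerComm_add]
      map_smul' := fun b h => by
        obtain ⟨c, rfl⟩ := e.surjective h
        rw [← he b c, AddEquiv.symm_apply_apply, AddEquiv.symm_apply_apply, kerComm_mul]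
        rfl
      left_inv := fun h => by
        change e (ψ₀.symm (ψ₀ (e.symm h))) = h
        rw [Equiv.symm_apply_apply, AddEquiv.apply_symm_apply]
      right_inv := fun z => by
        change ψ₀ (e.symm (e (ψ₀.symm z))) = z
        rw [AddEquiv.symm_apply_apply, Equiv.apply_symm_apply] }
  rw [ψ.finrank_eq, ← (hkBaseChange C (p : ℤ) K inferInstance).finrank_eq,
    Module.finrank_baseChange, ← (tOneEquiv C (p : ℤ)).finrank_eq,
    (selfLinIso k G F p).finrank_eq]

/-- Extension of the base field preserves and reflects vanishing of cohomology. -/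
theorem subsingleton_HH_baseChange_iff (hsq : IsBC (A := k) (A' := K) g) [CompactSpace X]
    [X.IsSeparated] (F : X.Modules) [F.IsQuasicoherent] (p : ℕ) :
    Subsingleton (Coh.HH X' ((Scheme.Modules.pullback g).obj F) p) ↔
      Subsingleton (Coh.HH X F p) := by
  obtain ⟨G⟩ := exists_goodCover X
  set C := cxA k G.U F
  obtain ⟨e, -⟩ := exists_bcEquiv hsq F G p
  rw [e.symm.toEquiv.subsingleton_congr,
    (Equiv.ofBijective _ (kerComm_bijective (K := K) C (p : ℤ))).subsingleton_congr,
    ← (hkBaseChange C (p : ℤ) K inferInstance).toEquiv.subsingleton_congr,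
    ← (selfLinIso k G F p).toEquiv.subsingleton_congr, (tOneEquiv C (p : ℤ)).toEquiv.subsingleton_congr]
  refine ⟨fun h => ?_, fun h => inferInstance⟩
  have h0 : Module.rank K (K ⊗[k] Hk C (p : ℤ)) = 0 := rank_zero_iff.2 h
  rw [Module.rank_baseChange, Cardinal.lift_id] at h0
  exact rank_zero_iff.1 h0

/-- Extension of the base field does not change the Euler characteristic. -/
theorem euler_baseChange (hsq : IsBC (A := k) (A' := K) g) [CompactSpace X] [X.IsSeparated]
    (F : X.Modules) [F.IsQuasicoherent] :
    Curv2.euler K X' ((Scheme.Modules.pullback g).obj F) = Curv2.euler k X F := by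
  unfold Curv2.euler
  exact finsum_congr fun i => by rw [finrank_HH_baseChange hsq F i]

end Groth.HilbStab.BC
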