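import Groth.Agent.HilbStab.BC.CurvBC
import Groth.Agent.HilbStab.Pure
import Groth.Agent.KTheory.FlatPushKInj
import Groth.Agent.Chow.VeryAmplePn

/-!
# Inverse images along a field extension: exactness and Hilbert polynomials
-/

set_option autoImplicit false

universe u

open CategoryTheory Limits AlgebraicGeometry

namespace Groth.HilbStab.BC

open Groth.CohBase

variable {k K : Type u} [Field k] [Field K] [Algebra k K] {X X' : Scheme.{u}}
  [X.Over (Spec (CommRingCat.of k))] [X'.Over (Spec (CommRingCat.of K))] {g : X' ⟶ X}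
  (hsq : IsBC (A := k) (A' := K) g)
include hsq

theorem flat_bc : Flat g := by
  refine MorphismProperty.of_isPullback hsq.flip ?_
  rw [Flat.SpecMap_iff]
  exact RingHom.flat_algebraMap_iff.2 (inferInstance : Module.Flat k K)

/-- Inverse image along a field extension is exact. -/
theorem exact_pullback (S : ShortComplex X.Modules) (hS : S.Exact) :
    (S.map (Scheme.Modules.pullback g)).Exact := by
  have := flat_bc hsq
  rw [(DerivedCoh.KFlat.stk_jointly (X := X')).exact_iff]
  intro x
  have := ModuleCat.preservesFiniteLimits_extendScalars_of_flat.{u} (Flat.stalkMap g x)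
  exact ShortComplex.exact_of_iso (S.mapNatIso (DerivedCoh.KFlat.pullStkIso g x)).symm
    ((hS.map (DerivedCoh.KFlat.stk (g x))).map
      (ModuleCat.extendScalars.{u, u, u} (g.stalkMap x).hom))

theorem mono_pullback {A B : X.Modules} (φ : A ⟶ B) [Mono φ] :
    Mono ((Scheme.Modules.pullback g).map φ) := by
  have h : (ShortComplex.mk (0 : A ⟶ A) φ zero_comp).Exact :=
    (ShortComplex.exact_iff_mono _ rfl).2 inferInstance
  have h' := exact_pullback hsq _ h
  exact (ShortComplex.exact_iff_mono _ (Functor.map_zero _ _ _)).1 h'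

/-- Inverse image along a field extension of a short exact sequence. -/
theorem shortExact_pullback {S : ShortComplex X.Modules} (hS : S.ShortExact) :
    (S.map (Scheme.Modules.pullback g)).ShortExact :=
  have := hS.mono_f
  have := hS.epi_g
  { exact := exact_pullback hsq S hS.exact
    mono_f := mono_pullback hsq S.f
    epi_g := inferInstanceAs (Epi ((Scheme.Modules.pullback g).map S.g)) }

omit [X.Over (Spec (CommRingCat.of k))] [X'.Over (Spec (CommRingCat.of K))] hsq in
theorem isCoh_pullback {E : X.Modules} (hE : Coh.IsCoh E) :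
    Coh.IsCoh ((Scheme.Modules.pullback g).obj E) :=
  haveI := hE.1
  ⟨QCohMod.isQCoh_pullback_obj g E, QCohMod.isFT_pullback g E hE.2⟩

variable [IsProper (X ↘ Spec (CommRingCat.of k))]

theorem isProper_bc : IsProper (X' ↘ Spec (CommRingCat.of K)) :=
  MorphismProperty.of_isPullback hsq inferInstance

omit [IsProper (X ↘ Spec (CommRingCat.of k))] in
theorem isAmple_pullback {L : X.Modules} (hL : CohB1.IsAmple L) :
    CohB1.IsAmple ((Scheme.Modules.pullback g).obj L) :=
  have := isAffineHom_of_bc hsq
  Chow.isAmple_pullback_of_isAffineHom g hL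

variable {L : X.Modules} (hL : CohB1.IsAmple L)

include hL in
/-- Hilbert polynomials do not change under extension of the field. -/
theorem isHilbPoly_pullback {E : X.Modules} (hE : Coh.IsCoh E) {P : Polynomial ℚ}
    (hP : ShStab.IsHilbPoly k X L E P) :
    ShStab.IsHilbPoly K X' ((Scheme.Modules.pullback g).obj L)
      ((Scheme.Modules.pullback g).obj E) P := fun m => by
  have : CompactSpace X := hL.2.1
  have := isSeparated_of_proper k X
  have : (ShStab.twist X L E m).IsQuasicoherent := (isCoh_twist hL hE m).1
  rw [← hP m, ← euler_baseChange hsq (ShStab.twist X L E m)]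
  obtain ⟨e, -⟩ := PicAux.exists_pullback_tensorMod g E (CohB1.tensorPow L m)
  obtain ⟨e'⟩ := PicAux.pullback_tensorPow g L m
  exact congrArg _ (EulerDeg.euler_congr (k := K)
    ((PicGrp.tensorModIso (Iso.refl ((Scheme.Modules.pullback g).obj E)) e').symm ≪≫ e.symm))

include hL in
theorem isHilbPoly_pullback_iff {E : X.Modules} (hE : Coh.IsCoh E) {P : Polynomial ℚ} :
    ShStab.IsHilbPoly K X' ((Scheme.Modules.pullback g).obj L)
      ((Scheme.Modules.pullback g).obj E) P ↔ ShStab.IsHilbPoly k X L E P := by
  refine ⟨fun h => ?_, isHilbPoly_pullback hsq hL hE⟩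
  obtain ⟨Q, hQ⟩ := exists_isHilbPoly k X hL hE
  rwa [isHilbPoly_unique K h (isHilbPoly_pullback hsq hL hE hQ)]

include hL in
theorem not_isZero_pullback {E : X.Modules} (hE : Coh.IsCoh E) (h0 : ¬ IsZero E) :
    ¬ IsZero ((Scheme.Modules.pullback g).obj E) := fun h => by
  have := isProper_bc hsq
  obtain ⟨P, hP⟩ := exists_isHilbPoly k X hL hE
  have hP' := isHilbPoly_pullback hsq hL hE hP
  exact h0 ((eq_zero_iff k hL hE hP).1
    (eq_zero_of_isZero K h hP'))

end Groth.HilbStab.BC
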