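import Mathlib.LinearAlgebra.Dimension.Free
import Mathlib.LinearAlgebra.FiniteDimensional.Lemmas
import Mathlib.Algebra.Polynomial.AlgebraMap
import Mathlib.RingTheory.Polynomial.Basic

/-!
# Dimensions of subspaces defined over an extension field, by leading coefficients
-/

set_option autoImplicit false

universe u v w

namespace Groth.HilbStab.BC.LinAlg

open Polynomial Module

variable {k : Type u} {K : Type v} [Field k] [Field K] [Algebra k K] {V V' : Type w}
  [AddCommGroup V] [Module k V] [AddCommGroup V'] [Module k V'] [Module K V'] [IsScalarTower k K V']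
  (p : V →ₗ[k] V') (t : K)

/-- Combinations with powers of `t` below `n`. -/
def fil : ℕ → Submodule k V'
  | 0 => ⊥
  | n + 1 => fil n ⊔ LinearMap.range ((DistribSMul.toLinearMap k V' (t ^ n)).comp p)

theorem mem_fil_iff (n : ℕ) (y : V') :
    y ∈ fil p t n ↔ ∃ v : ℕ → V, y = ∑ i ∈ Finset.range n, t ^ i • p (v i) := by
  induction n generalizing y with
  | zero =>
    simp only [fil, Submodule.mem_bot, Finset.range_zero, Finset.sum_empty]
    exact ⟨fun h => ⟨0, h⟩, fun ⟨_, h⟩ => h⟩
  | succ n ih =>
    rw [fil, Submodule.mem_sup]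
    constructor
    · rintro ⟨a, ha, _, ⟨x, rfl⟩, rfl⟩
      obtain ⟨v, rfl⟩ := (ih a).1 ha
      refine ⟨Function.update v n x, ?_⟩
      rw [Finset.sum_range_succ, Function.update_self]
      refine congrArg (· + _) (Finset.sum_congr rfl fun i hi => ?_)
      rw [Function.update_of_ne (Finset.mem_range.1 hi).ne]
    · rintro ⟨v, rfl⟩
      exact ⟨_, (ih _).2 ⟨v, rfl⟩, _, ⟨v n, rfl⟩, (Finset.sum_range_succ _ n).symm⟩

theorem fil_mono : Monotone (fil p t) :=
  monotone_nat_of_le_succ fun n => le_sup_left

theorem smul_mem_fil {n : ℕ} (d : ℕ) {y : V'} (hy : y ∈ fil p t n) :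
    t ^ d • y ∈ fil p t (n + d) := by
  obtain ⟨v, rfl⟩ := (mem_fil_iff p t n y).1 hy
  rw [Finset.smul_sum]
  refine Submodule.sum_mem _ fun i hi => ?_
  rw [smul_smul, ← pow_add]
  refine fil_mono p t (show d + i + 1 ≤ n + d by have := Finset.mem_range.1 hi; omega) ?_
  exact Submodule.mem_sup_right ⟨v i, rfl⟩

variable (hind : ∀ (n : ℕ) (x : V), t ^ n • p x ∈ fil p t n → x = 0)
  (hfrac : ∀ a : K, ∃ q r : k[X], aeval t q ≠ 0 ∧ a * aeval t q = aeval t r)
  (hspan : ∀ s : V', ∃ (n : ℕ) (a : K), a ≠ 0 ∧ a • s ∈ fil p t n)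
  (N : Submodule K V') (L : Submodule k V) (n₀ : ℕ)
  (hle : ∀ (n : ℕ) (x : V), ∀ y ∈ fil p t n, y + t ^ n • p x ∈ N → x ∈ L)
  (hge : ∀ x ∈ L, ∃ y ∈ fil p t n₀, y + t ^ n₀ • p x ∈ N)

include hind in
theorem eq_zero_of_sum {r : ℕ} {x : Fin r → V} (hx : LinearIndependent k x) {y : Fin r → V'}
    (hy : ∀ j, y j ∈ fil p t n₀) (D : ℕ) (c : ℕ → Fin r → k)
    (h : ∑ d ∈ Finset.range D, ∑ j, c d j • t ^ d • (y j + t ^ n₀ • p (x j)) = 0) :
    ∀ d < D, c d = 0 := by
  induction D with
  | zero => intro d hd; omega
  | succ D ih =>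
    have hrest : ∑ d ∈ Finset.range D, ∑ j, c d j • t ^ d • (y j + t ^ n₀ • p (x j)) ∈
        fil p t (n₀ + D) := by
      refine Submodule.sum_mem _ fun d hd => Submodule.sum_mem _ fun j _ => Submodule.smul_mem _ _ ?_
      have hd' := Finset.mem_range.1 hd
      refine fil_mono p t (show n₀ + 1 + d ≤ n₀ + D by omega) (smul_mem_fil p t d ?_)
      exact Submodule.add_mem _ (fil_mono p t (Nat.le_succ _) (hy j))
        (Submodule.mem_sup_right ⟨x j, rfl⟩)
    have htop : t ^ (n₀ + D) • p (∑ j, c D j • x j) =
        ∑ j, c D j • t ^ D • (y j + t ^ n₀ • p (x j)) - ∑ j, c D j • t ^ D • y j := by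
      rw [← Finset.sum_sub_distrib, map_sum, Finset.smul_sum]
      refine Finset.sum_congr rfl fun j _ => ?_
      rw [← smul_sub, ← smul_sub, add_sub_cancel_left, map_smul, smul_comm, smul_smul, pow_add,
        mul_comm]
    have h0 : c D = 0 := by
      refine funext fun j => Fintype.linearIndependent_iff.1 hx (c D) ?_ j
      refine hind (n₀ + D) _ ?_
      rw [htop]
      refine Submodule.sub_mem _ ?_ ?_
      · rw [Finset.sum_range_succ, add_comm, add_eq_zero_iff_eq_neg] at h
        rw [h]
        exact Submodule.neg_mem _ hrest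
      · exact Submodule.sum_mem _ fun j _ => Submodule.smul_mem _ _ (smul_mem_fil p t D (hy j))
    intro d hd
    rcases Nat.lt_succ_iff_lt_or_eq.1 hd with hd | rfl
    · refine ih ?_ d hd
      rw [Finset.sum_range_succ, h0] at h
      simpa using h
    · exact h0

include hfrac in
theorem exists_common_denom {r : ℕ} (a : Fin r → K) :
    ∃ (q : K) (_ : q ≠ 0) (D : ℕ) (c : ℕ → Fin r → k),
      ∀ j, q * a j = ∑ d ∈ Finset.range D, c d j • t ^ d := by
  classical
  choose q s hq hs using fun j => hfrac (a j)
  let Q : Fin r → k[X] := fun j => s j * ∏ i ∈ Finset.univ.erase j, q i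
  let D := (Finset.univ.sup fun j => (Q j).natDegree) + 1
  refine ⟨aeval t (∏ i, q i), ?_, D, fun d j => (Q j).coeff d, fun j => ?_⟩
  · rw [map_prod]
    exact Finset.prod_ne_zero_iff.2 fun i _ => hq i
  · rw [← aeval_eq_sum_range' (p := Q j) (n := D)
      (Nat.lt_succ_of_le (Finset.le_sup (f := fun j => (Q j).natDegree) (Finset.mem_univ j))) t,
      map_mul, ← hs j, ← Finset.mul_prod_erase Finset.univ q (Finset.mem_univ j), map_mul]
    ring

include hind hfrac hge in
theorem le_finrank [FiniteDimensional K N] [FiniteDimensional k L] :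
    finrank k L ≤ finrank K N := by
  let b := Module.finBasis k L
  choose y hy hmem using fun j => hge _ (b j).2
  let s : Fin (finrank k L) → N := fun j => ⟨_, hmem j⟩
  have hs : LinearIndependent K s := by
    refine Fintype.linearIndependent_iff.2 fun a ha j => ?_
    obtain ⟨q, hq, D, c, hc⟩ := exists_common_denom t hfrac a
    have h1 : ∑ d ∈ Finset.range D, ∑ j, c d j • t ^ d • (y j + t ^ n₀ • p (b j : V)) = 0 := by
      rw [Finset.sum_comm]
      have h2 := congrArg (fun z : N => q • (z : V')) ha
      simp only [Submodule.coe_sum, Submodule.coe_smul, Finset.smul_sum, ZeroMemClass.coe_zero,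
        smul_zero, smul_smul, hc, Finset.sum_smul, smul_assoc, s] at h2
      exact h2
    have h3 := eq_zero_of_sum p t hind n₀
      (x := fun j => (b j : V)) (b.linearIndependent.map' L.subtype L.ker_subtype) hy D c h1
    have h4 : q * a j = 0 := by
      rw [hc j]
      exact Finset.sum_eq_zero fun d hd => by rw [h3 d (Finset.mem_range.1 hd), Pi.zero_apply, zero_smul]
    exact (mul_eq_zero.1 h4).resolve_left hq
  simpa using hs.fintype_card_le_finrank

include hle in
theorem finrank_inf_fil_le [FiniteDimensional k L] : ∀ n,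
    FiniteDimensional k ↥((N.restrictScalars k) ⊓ fil p t n) ∧
      finrank k ↥((N.restrictScalars k) ⊓ fil p t n) ≤ n * finrank k L := by
  intro n
  induction n with
  | zero =>
    rw [fil, inf_bot_eq]
    simp only [finrank_bot, zero_mul, le_refl, and_true]
    infer_instance
  | succ n ih =>
    obtain ⟨hfd, hdim⟩ := ih
    set M := (N.restrictScalars k) ⊓ fil p t (n + 1)
    let f : M →ₗ[k] V' ⧸ fil p t n := (fil p t n).mkQ.comp M.subtype
    let R := (L.map ((DistribSMul.toLinearMap k V' (t ^ n)).comp p)).map (fil p t n).mkQ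
    have hR : LinearMap.range f ≤ R := by
      rintro _ ⟨⟨y, hyN, hy⟩, rfl⟩
      obtain ⟨a, ha, _, ⟨x, rfl⟩, rfl⟩ := Submodule.mem_sup.1 hy
      refine ⟨_, ⟨x, hle n x a ha hyN, rfl⟩, ?_⟩
      change (fil p t n).mkQ _ = (fil p t n).mkQ (a + _)
      rw [map_add, show (fil p t n).mkQ a = 0 from (Submodule.Quotient.mk_eq_zero _).2 ha, zero_add]
    have : FiniteDimensional k R := inferInstance
    have : FiniteDimensional k (LinearMap.range f) := Submodule.finiteDimensional_of_le hR
    let e : LinearMap.ker f →ₗ[k] ↥((N.restrictScalars k) ⊓ fil p t n) :=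
      (M.subtype.comp (LinearMap.ker f).subtype).codRestrict _ fun z =>
        ⟨z.1.2.1, (Submodule.Quotient.mk_eq_zero _).1 (LinearMap.mem_ker.1 z.2)⟩
    have he : Function.Injective e := fun a b h => Subtype.ext (Subtype.ext (congrArg Subtype.val h :))
    have : FiniteDimensional k (LinearMap.ker f) := FiniteDimensional.of_injective e he
    have : Module.Finite k (M ⧸ LinearMap.ker f) := Module.Finite.equiv f.quotKerEquivRange.symm
    have : FiniteDimensional k M := Module.Finite.of_submodule_quotient (LinearMap.ker f)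
    refine ⟨this, ?_⟩
    rw [← f.finrank_range_add_finrank_ker, add_one_mul, add_comm]
    exact Nat.add_le_add ((LinearMap.finrank_le_finrank_of_injective he).trans hdim)
      ((Submodule.finrank_mono hR).trans
        ((Submodule.finrank_map_le _ _).trans (Submodule.finrank_map_le _ _)))

include hspan hle in
theorem finrank_le (hinj : Function.Injective fun q : k[X] => aeval t q) [FiniteDimensional K N]
    [FiniteDimensional k L] : finrank K N ≤ finrank k L := by
  set R := finrank K N
  set r := finrank k L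
  let b := Module.finBasis K N
  choose n a ha hn using fun j => hspan (b j : V')
  let n' := Finset.univ.sup n
  let D := r * n'
  let φ : (Fin R → Polynomial.degreeLT k (D + 1)) →ₗ[k] V' :=
    LinearMap.lsum k (fun _ => Polynomial.degreeLT k (D + 1)) k fun j =>
      (((LinearMap.toSpanSingleton K V' (a j • (b j : V'))).restrictScalars k).comp
        (aeval t).toLinearMap).comp (Polynomial.degreeLT k (D + 1)).subtype
  have hφ : ∀ c, φ c = ∑ j, aeval t (c j).1 • a j • (b j : V') := fun c => by
    simp [φ, LinearMap.lsum_apply]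
  have hinj' : Function.Injective φ := by
    rw [← LinearMap.ker_eq_bot, LinearMap.ker_eq_bot']
    intro c hc
    rw [hφ] at hc
    have h1 : ∑ j, (aeval t (c j).1 * a j) • b j = 0 := Subtype.ext (by
      simpa [smul_smul] using hc)
    funext j
    have h2 := Fintype.linearIndependent_iff.1 b.linearIndependent _ h1 j
    exact Subtype.ext (hinj (((mul_eq_zero.1 h2).resolve_right (ha j)).trans
      (map_zero (aeval t)).symm))
  have hmem : ∀ c, φ c ∈ (N.restrictScalars k) ⊓ fil p t (n' + (D + 1)) := fun c => by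
    refine ⟨?_, ?_⟩
    · rw [hφ]
      exact N.sum_mem fun j _ => N.smul_mem _ (N.smul_mem _ (b j).2)
    · rw [hφ]
      refine Submodule.sum_mem _ fun j _ => ?_
      rw [aeval_eq_sum_range' (Nat.lt_succ_of_le
          (show (c j).1.natDegree ≤ D from Polynomial.natDegree_le_iff_degree_le.2
            (Order.le_of_lt_succ (Polynomial.mem_degreeLT.1 (c j).2)))) t, Finset.sum_smul]
      refine Submodule.sum_mem _ fun d hd => ?_
      rw [smul_assoc]
      refine Submodule.smul_mem _ _ (fil_mono p t ?_ (smul_mem_fil p t d (hn j)))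
      have h1 : n j ≤ n' := Finset.le_sup (Finset.mem_univ j)
      have h2 := Finset.mem_range.1 hd
      omega
  obtain ⟨hfd, hdim⟩ := finrank_inf_fil_le p t N L hle (n' + (D + 1))
  have h5 := LinearMap.finrank_le_finrank_of_injective
    (f := φ.codRestrict _ hmem) (fun x y h => hinj' (congrArg Subtype.val h :))
  have : Module.Finite k (Polynomial.degreeLT k (D + 1)) :=
    Module.Finite.equiv (Polynomial.degreeLTEquiv k (D + 1)).symm
  rw [Module.finrank_pi_fintype] at h5
  simp only [LinearEquiv.finrank_eq (Polynomial.degreeLTEquiv k (D + 1)), Module.finrank_fin_fun,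
    Finset.sum_const, Finset.card_univ, Fintype.card_fin, smul_eq_mul] at h5
  by_contra hlt
  rw [not_le] at hlt
  have h6 : (r + 1) * (D + 1) ≤ R * (D + 1) := Nat.mul_le_mul_right _ hlt
  have h7 := h6.trans (h5.trans hdim)
  have h8 : (n' + (D + 1)) * r = D + r * (D + 1) := by simp only [D]; ring
  rw [h8, add_mul, one_mul] at h7
  omega

include hind hfrac hspan hle hge in
/-- The dimension of `N` is that of the space of leading coefficients. -/
theorem finrank_eq (hinj : Function.Injective fun q : k[X] => aeval t q) [FiniteDimensional K N]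
    [FiniteDimensional k L] : finrank K N = finrank k L :=
  le_antisymm (finrank_le p t hspan N L hle hinj) (le_finrank p t hind hfrac N L n₀ hge)

omit N in
/-- Scalar restriction along a finite basis. -/
theorem finrank_comap_comb {n : ℕ} (b : Fin n → K) (hb : finrank k K = n)
    (Φ : (Fin n → V) →ₗ[k] V') (hΦ : Function.Bijective Φ) (N : Submodule K V') :
    finrank k ↥((N.restrictScalars k).comap Φ) = n * finrank K N := by
  let e := LinearEquiv.ofBijective Φ hΦ
  rw [show (N.restrictScalars k).comap Φ = (N.restrictScalars k).comap (e : (Fin n → V) →ₗ[k] V')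
    from rfl, Submodule.comap_equiv_eq_map_symm, LinearEquiv.finrank_map_eq, ← hb]
  exact (Module.finrank_mul_finrank k K N).symm

end Groth.HilbStab.BC.LinAlg
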