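import Groth.Agent.HilbStab.BC.Twist
import Groth.Agent.HilbStab.BC.LinAlg
import Groth.Agent.LocFree.Basic

/-!
# Global sections of twists along a field extension, as vector spaces
-/

set_option autoImplicit false

universe u

open CategoryTheory Limits AlgebraicGeometry TopologicalSpace Opposite

namespace Groth.HilbStab.BC

theorem isFinLocFree_inv {S : Scheme.{u}} {M : S.Modules} (h : PicF.IsInvertible M) :
    FlatMod.IsFinLocFree M := fun x =>
  (LocFree.isInvertible_iff_ofRank_one.1 h x).elim fun U hU => ⟨U, 1, hU⟩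

open Groth.CohBase
open Groth.PicAux (pullSec pullSec_smul)
open Groth.CohTwo.SheafHomIso (tF)
open Groth.CohTwo.LocFreeExt (flipIso)

/-- A morphism on sections, linearly over the constants. -/
noncomputable def secMap (R : Type u) [CommRing R] {S : Scheme.{u}}
    [S.Over (Spec (CommRingCat.of R))] {A B : S.Modules} (φ : A ⟶ B) (W : S.Opens) :
    secA R A W →ₗ[R] secA R B W where
  toFun v := φ.app W (show Γ(A, W) from v)
  map_add' v w := map_add (φ.app W).hom (show Γ(A, W) from v) (show Γ(A, W) from w)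
  map_smul' c v := φ.app_smul (toSec R W c) (show Γ(A, W) from v)

theorem secMap_apply (R : Type u) [CommRing R] {S : Scheme.{u}}
    [S.Over (Spec (CommRingCat.of R))] {A B : S.Modules} (φ : A ⟶ B) (W : S.Opens)
    (v : secA R A W) : secMap R φ W v = (show secA R B W from φ.app W (show Γ(A, W) from v)) := rfl

theorem secMap_injective (R : Type u) [CommRing R] {S : Scheme.{u}}
    [S.Over (Spec (CommRingCat.of R))] {A B : S.Modules} (φ : A ⟶ B) [Mono φ] (W : S.Opens) :
    Function.Injective (secMap R φ W) :=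
  fun _ _ h => QCohMod.app_injective_of_mono φ W h

section One

variable (R : Type u) [Field R] {S : Scheme.{u}} [S.Over (Spec (CommRingCat.of R))]

/-- Global sections are `H⁰`. -/
noncomputable def secTopEquiv (M : S.Modules) : Coh.HH S M 0 ≃ₗ[R] secA R M ⊤ where
  toFun x := CohFin.equivSections (S ↘ Spec (CommRingCat.of R)) M x
  invFun s := (CohFin.equivSections (S ↘ Spec (CommRingCat.of R)) M).symm (show Γ(M, ⊤) from s)
  map_add' x y := map_add (CohFin.equivSections (S ↘ Spec (CommRingCat.of R)) M) x y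
  map_smul' c x := by
    refine (CohFin.equivSections_smul (S ↘ Spec (CommRingCat.of R)) M c x).trans ?_
    change _ = toSec R (⊤ : S.Opens) c •
      CohFin.equivSections (S ↘ Spec (CommRingCat.of R)) M x
    congr 1
    exact (QCohMod.resFun_self _).symm
  left_inv x := (CohFin.equivSections (S ↘ Spec (CommRingCat.of R)) M).symm_apply_apply x
  right_inv s := (CohFin.equivSections (S ↘ Spec (CommRingCat.of R)) M).apply_symm_apply
    (show Γ(M, ⊤) from s)

variable [IsProper (S ↘ Spec (CommRingCat.of R))]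

theorem finite_secA {M : S.Modules} (hM : Coh.IsCoh M) : Module.Finite R (secA R M ⊤) :=
  haveI := EulerDeg.finite_HH R S hM 0
  Module.Finite.equiv (secTopEquiv R M)

variable {L : S.Modules} (hL : CohB1.IsAmple L)
include hL

omit [S.Over (Spec (CommRingCat.of R))] [IsProper (S ↘ Spec (CommRingCat.of R))] in
theorem isCoh_tensor_left {F : S.Modules} (hF : Coh.IsCoh F) (m : ℕ) :
    Coh.IsCoh (CohB1.tensorMod (CohB1.tensorPow L m) F) :=
  QCohMod.isCoh_of_iso ((flipIso (CohB1.tensorPow L m)).app F) (isCoh_twist hL hF m)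

/-- The Hilbert polynomial counts sections of high twists. -/
theorem exists_eval_eq_sec {F : S.Modules} (hF : Coh.IsCoh F) {P : Polynomial ℚ}
    (hP : ShStab.IsHilbPoly R S L F P) : ∃ N : ℕ, ∀ m, N ≤ m →
      P.eval (m : ℚ) =
        (Module.finrank R (secA R (CohB1.tensorMod (CohB1.tensorPow L m) F) ⊤) : ℚ) := by
  obtain ⟨N, hN⟩ := exists_eval_eq_h0 R hL hF hP
  refine ⟨N, fun m hm => ?_⟩
  rw [hN m hm, ← (secTopEquiv R (CohB1.tensorMod (CohB1.tensorPow L m) F)).finrank_eq]
  exact congrArg Nat.cast
    (EulerDeg.finrank_congr (k := R) ((flipIso (CohB1.tensorPow L m)).app F) 0)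

include R in
/-- High twists have no higher cohomology. -/
theorem exists_subsingleton_left {F : S.Modules} (hF : Coh.IsCoh F) :
    ∃ N : ℕ, ∀ m, N ≤ m →
      Subsingleton (Coh.HH S (CohB1.tensorMod (CohB1.tensorPow L m) F) 1) := by
  obtain ⟨N, hN⟩ := PnCoh.exists_subsingleton_of_isAmple (S ↘ Spec (CommRingCat.of R)) hL F hF
  exact ⟨N, fun m hm => PnCoh.subsingleton_HH_of_iso (S ↘ Spec (CommRingCat.of R))
    ((flipIso (CohB1.tensorPow L m)).app F) (hN m hm 1 one_pos)⟩

end One

variable {k K : Type u} [Field k] [Field K] [Algebra k K] {X X' : Scheme.{u}}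
  [X.Over (Spec (CommRingCat.of k))] [X'.Over (Spec (CommRingCat.of K))] {g : X' ⟶ X}

/-- Sections on the extension, as vector spaces over the small field. -/
noncomputable scoped instance modK (M : X'.Modules) (W : X'.Opens) : Module k (secA K M W) :=
  Module.compHom _ (algebraMap k K)

scoped instance towerK (M : X'.Modules) (W : X'.Opens) : IsScalarTower k K (secA K M W) :=
  IsScalarTower.of_algebraMap_smul fun _ _ => rfl

variable (hsq : IsBC (A := k) (A' := K) g)

/-- Inverse image of sections, linearly. -/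
noncomputable def pullLin (E : X.Modules) (W : X.Opens) :
    secA k E W →ₗ[k] secA K ((Scheme.Modules.pullback g).obj E) (g ⁻¹ᵁ W) where
  toFun v := pullSec g E (show Γ(E, W) from v)
  map_add' v w := ProjFormula.pullSec_add' g E _ _
  map_smul' c v := by
    change pullSec g E (toSec k W c • (show Γ(E, W) from v)) =
      toSec K (g ⁻¹ᵁ W) (algebraMap k K c) • pullSec g E (show Γ(E, W) from v)
    rw [pullSec_smul, app_toSec hsq]

theorem comb_eq_sum (E : X.Modules) (W : X.Opens) {n : ℕ} (b : Fin n → K)
    (e : Fin n → secA k E W) :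
    (∑ i, b i • pullLin hsq E W (e i) :
      secA K ((Scheme.Modules.pullback g).obj E) (g ⁻¹ᵁ W)) =
      comb E b (fun i => (show Γ(E, W) from e i)) := rfl

include hsq in
theorem eq_zero_of_sum_pullLin (E : X.Modules) [E.IsQuasicoherent] {W : X.Opens} {n : ℕ}
    {b : Fin n → K} (hb : LinearIndependent k b) {e : Fin n → secA k E W}
    (h : ∑ i, b i • pullLin hsq E W (e i) = 0) (i : Fin n) : e i = 0 :=
  comb_eq_zero hsq E hb (e := fun j => (show Γ(E, W) from e j)) h i

variable [IsProper (X ↘ Spec (CommRingCat.of k))]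

include hsq in
theorem finrank_secA_pullback (E : X.Modules) [E.IsQuasicoherent] :
    Module.finrank K (secA K ((Scheme.Modules.pullback g).obj E) (g ⁻¹ᵁ ⊤)) =
      Module.finrank k (secA k E ⊤) := by
  have : CompactSpace X := QuasiCompact.compactSpace_of_compactSpace (X ↘ Spec (CommRingCat.of k))
  have := isSeparated_of_proper k X
  change Module.finrank K (secA K ((Scheme.Modules.pullback g).obj E) ⊤) = _
  rw [← (secTopEquiv K ((Scheme.Modules.pullback g).obj E)).finrank_eq,
    ← (secTopEquiv k E).finrank_eq, finrank_HH_baseChange hsq E 0]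

include hsq in
theorem finite_secA_pullback {E : X.Modules} (hE : Coh.IsCoh E) :
    Module.Finite K (secA K ((Scheme.Modules.pullback g).obj E) (g ⁻¹ᵁ ⊤)) :=
  haveI := isProper_bc hsq
  finite_secA K (isCoh_pullback hE)

include hsq in
/-- Global sections on the extension are spanned by inverse images. -/
theorem span_pullLin {E : X.Modules} (hE : Coh.IsCoh E) :
    Submodule.span K (Set.range (pullLin hsq E ⊤)) = ⊤ := by
  have := hE.1
  have := finite_secA k hE
  have := finite_secA_pullback hsq hE
  let b := Module.finBasis k (secA k E ⊤)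
  have hli : LinearIndependent K fun j => pullLin hsq E ⊤ (b j) := by
    refine Fintype.linearIndependent_iff.2 fun c hc j => ?_
    let U := Submodule.span k (Set.range c)
    have : Module.Finite k U := Module.Finite.span_of_finite k (Set.finite_range c)
    let B := Module.finBasis k U
    let A : Fin (Module.finrank k (secA k E ⊤)) → Fin (Module.finrank k U) → k :=
      fun j i => B.repr ⟨c j, Submodule.subset_span ⟨j, rfl⟩⟩ i
    have hA : ∀ j, c j = ∑ i, A j i • (B i : K) := fun j => by
      have h := congrArg Subtype.val (B.sum_repr ⟨c j, Submodule.subset_span ⟨j, rfl⟩⟩)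
      rw [Submodule.coe_sum] at h
      exact h.symm
    have h0 : ∑ i, (B i : K) • pullLin hsq E ⊤ (∑ j, A j i • b j) = 0 := by
      simp only [map_sum, map_smul, Finset.smul_sum]
      rw [Finset.sum_comm]
      refine Eq.trans (Finset.sum_congr rfl fun j _ => ?_) hc
      rw [hA j, Finset.sum_smul]
      refine Finset.sum_congr rfl fun i _ => ?_
      rw [smul_comm, smul_assoc]
    have h1 : ∀ i, A j i = 0 := fun i =>
      Fintype.linearIndependent_iff.1 b.linearIndependent (fun j => A j i)
        (eq_zero_of_sum_pullLin hsq E (b := fun i => (B i : K))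
          (B.linearIndependent.map' U.subtype U.ker_subtype) h0 i) j
    rw [hA j]
    exact Finset.sum_eq_zero fun i _ => by rw [h1 i, zero_smul]
  refine top_le_iff.1 (le_trans ?_ (Submodule.span_mono (Set.range_comp_subset_range b _)))
  rw [show Set.range (pullLin hsq E ⊤ ∘ b) = Set.range (fun j => pullLin hsq E ⊤ (b j)) from rfl,
    hli.span_eq_top_of_card_eq_finrank' (by rw [finrank_secA_pullback hsq E, Fintype.card_fin])]

/-- Projections of the twisted kernel to the components, linearly. -/
noncomputable def filLin (N₀ : X.Modules) {E : X.Modules} {G : X'.Modules}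
    (q : (Scheme.Modules.pullback g).obj E ⟶ G) {n : ℕ} (b : Fin n → K) :
    secA k (CohB1.tensorMod N₀ (filObj q b)) ⊤ →ₗ[k]
      Fin n → secA k (CohB1.tensorMod N₀ E) ⊤ :=
  LinearMap.pi fun i => secMap k (filProj N₀ q b i) ⊤

/-- The twisted submodule. -/
noncomputable def subT (N₀ : X.Modules) {E : X.Modules} {F : X'.Modules}
    (ι : F ⟶ (Scheme.Modules.pullback g).obj E) :
    Submodule K (secA K ((Scheme.Modules.pullback g).obj (CohB1.tensorMod N₀ E)) (g ⁻¹ᵁ ⊤)) :=
  LinearMap.ker (secMap K (qT N₀ (cokernel.π ι)) (g ⁻¹ᵁ ⊤))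

omit [X.Over (Spec (CommRingCat.of k))] [IsProper (X ↘ Spec (CommRingCat.of k))] in
/-- The dimension of the twisted submodule. -/
theorem finrank_subT {N₀ : X.Modules} (hN : PicF.IsInvertible N₀) {E : X.Modules} {F : X'.Modules}
    (ι : F ⟶ (Scheme.Modules.pullback g).obj E) [Mono ι] :
    Module.finrank K (subT (K := K) N₀ ι) =
      Module.finrank K (secA K
        (CohB1.tensorMod ((Scheme.Modules.pullback g).obj N₀) F) (g ⁻¹ᵁ ⊤)) := by
  have hN' : FlatMod.IsFinLocFree ((Scheme.Modules.pullback g).obj N₀) :=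
    isFinLocFree_inv (PicAux.isInvertible_pullback g hN)
  have := (ProjFormula.preservesFinite_tF hN').1
  let T' := tF ((Scheme.Modules.pullback g).obj N₀)
  let j : CohB1.tensorMod ((Scheme.Modules.pullback g).obj N₀) F ⟶
      (Scheme.Modules.pullback g).obj (CohB1.tensorMod N₀ E) := T'.map ι ≫ (cIso N₀ E).inv
  have : Mono j := inferInstanceAs (Mono (T'.map ι ≫ (cIso N₀ E).inv))
  have hw : j ≫ qT N₀ (cokernel.π ι) = 0 := by
    have := ProjFormula.additive_tF ((Scheme.Modules.pullback g).obj N₀)
    change (T'.map ι ≫ (cIso N₀ E).inv) ≫ (cIso N₀ E).hom ≫ T'.map (cokernel.π ι) = 0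
    refine (Category.assoc _ _ _).trans ?_
    refine (congrArg (T'.map ι ≫ ·) (Iso.inv_hom_id_assoc _ _)).trans ?_
    refine (T'.map_comp _ _).symm.trans ?_
    exact (congrArg T'.map (cokernel.condition ι)).trans (Functor.map_zero _ _ _)
  have hex : (ShortComplex.mk j (qT N₀ (cokernel.π ι)) hw).Exact := by
    have := ProjFormula.additive_tF ((Scheme.Modules.pullback g).obj N₀)
    have h : ((ShortComplex.mk ι (cokernel.π ι) (cokernel.condition ι)).map T').Exact :=
      (ShortComplex.exact_of_g_is_cokernel _ (cokernelIsCokernel ι)).map_of_mono_of_preservesKernel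
        T' inferInstance inferInstance
    refine ShortComplex.exact_of_iso ?_ h
    exact ShortComplex.isoMk (Iso.refl _) (cIso N₀ E).symm (Iso.refl _)
      (Category.id_comp _) ((Iso.inv_hom_id_assoc _ _).trans (Category.comp_id _).symm)
  have hr : LinearMap.range (secMap K j (g ⁻¹ᵁ ⊤)) = subT (K := K) N₀ ι := by
    refine le_antisymm ?_ fun x hx => ?_
    · rintro _ ⟨y, rfl⟩
      exact congr(($hw).app (g ⁻¹ᵁ ⊤) y)
    · obtain ⟨y, hy⟩ := QCohMod.exists_app_eq_of_mono_exact hex (g ⁻¹ᵁ ⊤) x (LinearMap.mem_ker.1 hx)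
      exact ⟨y, hy⟩
  rw [← hr]
  exact (LinearEquiv.ofInjective _ (secMap_injective K j _)).finrank_eq.symm

include hsq in
omit [IsProper (X ↘ Spec (CommRingCat.of k))] in
theorem mem_range_filLin {N₀ : X.Modules} (hN : PicF.IsInvertible N₀) {E : X.Modules}
    {F : X'.Modules} (ι : F ⟶ (Scheme.Modules.pullback g).obj E) {n : ℕ} (b : Fin n → K)
    (v : Fin n → secA k (CohB1.tensorMod N₀ E) ⊤) :
    v ∈ LinearMap.range (filLin N₀ (cokernel.π ι) b) ↔
      ∑ i, b i • pullLin hsq (CohB1.tensorMod N₀ E) ⊤ (v i) ∈ subT (K := K) N₀ ι := by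
  rw [comb_eq_sum hsq, subT, LinearMap.mem_ker]
  refine Iff.trans ?_ (filProj_range N₀ (cokernel.π ι) b
    (isFinLocFree_inv hN) ⊤ fun i => (show Γ(CohB1.tensorMod N₀ E, ⊤) from v i))
  exact ⟨fun ⟨x, hx⟩ => ⟨x, fun i => congrFun hx i⟩, fun ⟨x, hx⟩ => ⟨x, funext hx⟩⟩

omit [IsProper (X ↘ Spec (CommRingCat.of k))] in
theorem filLin_injective {N₀ : X.Modules} (hN : PicF.IsInvertible N₀) {E : X.Modules}
    {G : X'.Modules} (q : (Scheme.Modules.pullback g).obj E ⟶ G) {n : ℕ} (b : Fin n → K) :
    Function.Injective (filLin (k := k) N₀ q b) := fun x y h =>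
  filProj_injective N₀ q b (isFinLocFree_inv hN) ⊤ x y fun i => congrFun h i

end Groth.HilbStab.BC
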