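import Groth.Agent.HilbStab.BC.Euler
import Groth.Agent.HilbStab.Scalar
import Groth.Agent.CohC3.Affines

/-!
# Sections of an inverse image along a field extension
-/

set_option autoImplicit false

universe u

open CategoryTheory Limits AlgebraicGeometry TopologicalSpace Opposite
open scoped TensorProduct

namespace Groth.HilbStab.BC

open Groth.CohBase
open Groth.PicAux (pullSec pullSec_smul res_pullSec)

variable {k K : Type u} [Field k] [Field K] [Algebra k K] {X X' : Scheme.{u}}
  [X.Over (Spec (CommRingCat.of k))] [X'.Over (Spec (CommRingCat.of K))] {g : X' ⟶ X}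

/-- Multiplication by a constant. -/
noncomputable def sca (b : K) (M : X'.Modules) : M ⟶ M :=
  scalar (Coh.toGlobal (X' ↘ Spec (CommRingCat.of K)) b) M

theorem sca_app (b : K) (M : X'.Modules) (V : X'.Opens) (a : Γ(M, V)) :
    (sca b M).app V a = toSec K V b • a := scalar_app _ M V a

theorem sca_sca (a b : K) (M : X'.Modules) : sca a M ≫ sca b M = sca (b * a) M :=
  CohTwo.hom_ext_app fun V s => by
    change (sca b M).app V ((sca a M).app V s) = _
    rw [sca_app, sca_app, sca_app, map_mul, mul_smul]

theorem sca_one (M : X'.Modules) : sca (1 : K) M = 𝟙 M :=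
  CohTwo.hom_ext_app fun V s => by
    rw [sca_app, map_one, one_smul]
    rfl

theorem sca_comm (b : K) {M N : X'.Modules} (φ : M ⟶ N) : sca b M ≫ φ = φ ≫ sca b N :=
  CohTwo.hom_ext_app fun V s => by
    change φ.app V ((sca b M).app V s) = (sca b N).app V (φ.app V s)
    rw [sca_app, sca_app, φ.app_smul]

/-- The section `Σ bᵢ g^*eᵢ`. -/
noncomputable def comb (E : X.Modules) {W : X.Opens} {n : ℕ} (b : Fin n → K)
    (e : Fin n → Γ(E, W)) : Γ((Scheme.Modules.pullback g).obj E, g ⁻¹ᵁ W) :=
  ∑ i, toSec K (g ⁻¹ᵁ W) (b i) • pullSec g E (e i)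

theorem res_comb (E : X.Modules) {V W : X.Opens} (h : V ≤ W) {n : ℕ} (b : Fin n → K)
    (e : Fin n → Γ(E, W)) :
    QCohMod.res _ (g.preimage_mono h) (comb (g := g) E b e) =
      comb E b (fun i => QCohMod.res E h (e i)) := by
  rw [comb, map_sum]
  refine Finset.sum_congr rfl fun i _ => ?_
  rw [QCohMod.res_smul, resFun_toSec]
  exact congrArg _ (res_pullSec g E h _)

variable (hsq : IsBC (A := k) (A' := K) g)
include hsq

/-- Every section over an affine open is a combination of inverse images. -/
theorem exists_comb (E : X.Modules) [E.IsQuasicoherent] {W : X.Opens} (hW : IsAffineOpen W)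
    (t : Γ((Scheme.Modules.pullback g).obj E, g ⁻¹ᵁ W)) :
    ∃ (n : ℕ) (b : Fin n → K) (e : Fin n → Γ(E, W)), t = comb E b e := by
  obtain ⟨z, rfl⟩ := (bcSec_bijective hsq E hW).surjective t
  induction z using TensorProduct.induction_on with
  | zero => exact ⟨0, Fin.elim0, Fin.elim0, by simp [comb]⟩
  | tmul s b => exact ⟨1, fun _ => b, fun _ => s, by simp [comb, bcSec_tmul]⟩
  | add p q hp hq =>
    obtain ⟨n, b, e, hn⟩ := hp
    obtain ⟨m, c, f, hm⟩ := hq
    refine ⟨n + m, Fin.append b c, Fin.append e f, ?_⟩
    rw [map_add, hn, hm]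
    simp [comb, Fin.sum_univ_add]

/-- Inverse images are independent over an independent family of constants. -/
theorem comb_eq_zero_affine (E : X.Modules) [E.IsQuasicoherent] {W : X.Opens} (hW : IsAffineOpen W)
    {n : ℕ} {b : Fin n → K} (hb : LinearIndependent k b) {e : Fin n → Γ(E, W)}
    (h : comb (g := g) E b e = 0) (i : Fin n) : e i = 0 := by
  classical
  let z : secA k E W ⊗[k] K := ∑ j, (show secA k E W from e j) ⊗ₜ[k] b j
  have hz : bcSec hsq E W z = comb E b e := by
    rw [map_sum]
    exact Finset.sum_congr rfl fun j _ => bcSec_tmul hsq E W _ _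
  have hz0 : z = 0 := (bcSec_bijective hsq E hW).injective (by rw [hz, h, map_zero])
  obtain ⟨l, hl⟩ := (Fintype.linearCombination k b).exists_leftInverse_of_injective
    (LinearMap.ker_eq_bot.2 hb.fintypeLinearCombination_injective)
  have hlb : ∀ j, l (b j) i = if j = i then 1 else 0 := fun j => by
    have := LinearMap.congr_fun hl (Pi.single j 1)
    rw [LinearMap.comp_apply, Fintype.linearCombination_apply_single, one_smul,
      LinearMap.id_apply] at this
    rw [this, Pi.single_apply]
    simp only [eq_comm]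
  have h1 := congrArg (fun y => TensorProduct.rid k (secA k E W)
    ((((LinearMap.proj i).comp l : K →ₗ[k] k)).lTensor (secA k E W) y)) hz0
  simp only [z, map_sum, LinearMap.lTensor_tmul, LinearMap.comp_apply, LinearMap.proj_apply, hlb,
    TensorProduct.rid_tmul, ite_smul, one_smul, zero_smul, Finset.sum_ite_eq', Finset.mem_univ,
    if_true, map_zero] at h1
  exact h1

/-- Inverse images are independent over an independent family of constants. -/
theorem comb_eq_zero (E : X.Modules) [E.IsQuasicoherent] {W : X.Opens} {n : ℕ} {b : Fin n → K}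
    (hb : LinearIndependent k b) {e : Fin n → Γ(E, W)}
    (h : comb (g := g) E b e = 0) (i : Fin n) : e i = 0 := by
  refine CohTwo.eq_of_local E _ _ fun x hx => ?_
  obtain ⟨_, ⟨V, hV, rfl⟩, hxV, hVW⟩ :=
    X.isBasis_affineOpens.exists_subset_of_mem_open hx W.2
  refine ⟨V, hVW, hxV, ?_⟩
  refine Eq.trans (comb_eq_zero_affine hsq E hV hb
    (e := fun j => QCohMod.res E hVW (e j)) ?_ i) (map_zero _).symm
  rw [← res_comb E hVW, h, map_zero]

end Groth.HilbStab.BC
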