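import Groth.Agent.HilbStab.BC.Sections
import Groth.Agent.HilbStab.BC.Pull
import Groth.Agent.ProjFormula.Derived
import Groth.Agent.QCohMod.Category

/-!
# Combinations of inverse images with values in a quotient, and their twists
-/

set_option autoImplicit false

universe u

open CategoryTheory Limits AlgebraicGeometry TopologicalSpace Opposite

namespace Groth.HilbStab.BC

attribute [local instance] HasFiniteBiproducts.of_hasFiniteProducts

open Groth.CohBase
open Groth.PicAux (pullSec pullSec_smul res_pullSec tmulSec tensor_hom_ext pullSec_map)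
open Groth.CohTwo.SheafHomIso (tF tF_map_tmulSec)

variable {k K : Type u} [Field k] [Field K] [Algebra k K] {X X' : Scheme.{u}}
  [X'.Over (Spec (CommRingCat.of K))] {g : X' ⟶ X}

/-- Evaluation of morphisms at a section. -/
noncomputable def evalAt {S : Scheme.{u}} {A B : S.Modules} (W : S.Opens) (v : Γ(A, W)) :
    (A ⟶ B) →+ Γ(B, W) :=
  AddMonoidHom.mk' (fun φ => φ.app W v) fun _ _ => rfl

theorem evalAt_apply {S : Scheme.{u}} {A B : S.Modules} (W : S.Opens) (v : Γ(A, W)) (φ : A ⟶ B) :
    evalAt W v φ = φ.app W v := rfl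

/-- The component `e ↦ q(b g^*e)`. -/
noncomputable def thetaComp {E : X.Modules} {G : X'.Modules}
    (q : (Scheme.Modules.pullback g).obj E ⟶ G) (b : K) :
    E ⟶ (Scheme.Modules.pushforward g).obj G :=
  (Scheme.Modules.pullbackPushforwardAdjunction g).homEquiv _ _ (sca b _ ≫ q)

theorem thetaComp_app {E : X.Modules} {G : X'.Modules}
    (q : (Scheme.Modules.pullback g).obj E ⟶ G) (b : K) (W : X.Opens) (e : Γ(E, W)) :
    ((thetaComp q b).app W e : Γ(G, g ⁻¹ᵁ W)) =
      q.app (g ⁻¹ᵁ W) (toSec K (g ⁻¹ᵁ W) b • pullSec g E e) := by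
  rw [thetaComp, Adjunction.homEquiv_unit]
  change (sca b _ ≫ q).app (g ⁻¹ᵁ W) (pullSec g E e) = _
  change q.app _ ((sca b _).app _ (pullSec g E e)) = _
  rw [sca_app]

/-- Combinations with constants `b`, with values in the quotient. -/
noncomputable def theta {E : X.Modules} {G : X'.Modules}
    (q : (Scheme.Modules.pullback g).obj E ⟶ G) {n : ℕ} (b : Fin n → K) :
    (⨁ fun _ : Fin n => E) ⟶ (Scheme.Modules.pushforward g).obj G :=
  biproduct.desc fun i => thetaComp q (b i)

theorem app_biproduct_total {S : Scheme.{u}} {n : ℕ} (f : Fin n → S.Modules) (W : S.Opens)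
    (v : Γ(⨁ f, W)) :
    ∑ i, (biproduct.ι f i).app W ((biproduct.π f i).app W v) = v := by
  have h := congrArg (evalAt W v) (biproduct.total (f := f))
  rw [map_sum] at h
  exact h

theorem tF_total (M : X.Modules) (E : X.Modules) {n : ℕ} (W : X.Opens)
    (y : Γ(CohB1.tensorMod M (⨁ fun _ : Fin n => E), W)) :
    ∑ i, ((tF M).map (biproduct.ι (fun _ : Fin n => E) i)).app W
      (((tF M).map (biproduct.π (fun _ : Fin n => E) i)).app W y) = y := by
  have := ProjFormula.additive_tF M
  have h := congrArg (fun φ => evalAt W y ((tF M).map φ))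
    (biproduct.total (f := fun _ : Fin n => E))
  simp only [Functor.map_sum, CategoryTheory.Functor.map_comp,
    CategoryTheory.Functor.map_id] at h
  exact ((map_sum (evalAt W y) (fun i => (tF M).map (biproduct.π (fun _ : Fin n => E) i) ≫
    (tF M).map (biproduct.ι (fun _ : Fin n => E) i)) Finset.univ).symm.trans h :)

variable (N₀ : X.Modules)

/-- The inverse image of a twist. -/
noncomputable def cIso (E : X.Modules) :
    (Scheme.Modules.pullback g).obj (CohB1.tensorMod N₀ E) ≅
      CohB1.tensorMod ((Scheme.Modules.pullback g).obj N₀) ((Scheme.Modules.pullback g).obj E) :=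
  (PicAux.exists_pullback_tensorMod g N₀ E).choose

/-- The twisted quotient map. -/
noncomputable def qT {E : X.Modules} {G : X'.Modules}
    (q : (Scheme.Modules.pullback g).obj E ⟶ G) :
    (Scheme.Modules.pullback g).obj (CohB1.tensorMod N₀ E) ⟶
      CohB1.tensorMod ((Scheme.Modules.pullback g).obj N₀) G :=
  (cIso N₀ E).hom ≫ (tF ((Scheme.Modules.pullback g).obj N₀)).map q

theorem qT_pullSec {E : X.Modules} {G : X'.Modules}
    (q : (Scheme.Modules.pullback g).obj E ⟶ G) (W : X.Opens) (a : Γ(N₀, W)) (s : Γ(E, W)) :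
    (qT N₀ q).app (g ⁻¹ᵁ W) (pullSec g (CohB1.tensorMod N₀ E) (tmulSec a s)) =
      tmulSec (pullSec g N₀ a) (q.app (g ⁻¹ᵁ W) (pullSec g E s)) := by
  have h : (cIso (g := g) N₀ E).hom.app (g ⁻¹ᵁ W) (pullSec g (CohB1.tensorMod N₀ E) (tmulSec a s)) =
      tmulSec (pullSec g N₀ a) (pullSec g E s) :=
    (PicAux.exists_pullback_tensorMod g N₀ E).choose_spec W a s
  refine Eq.trans ?_ (tF_map_tmulSec q (g ⁻¹ᵁ W) (pullSec g N₀ a) (pullSec g E s))
  rw [← h]
  rfl

theorem tF_map_thetaComp {E : X.Modules} {G : X'.Modules}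
    (q : (Scheme.Modules.pullback g).obj E ⟶ G) (b : K) :
    (tF N₀).map (thetaComp q b) ≫ ProjFormula.pfApp g N₀ G = thetaComp (qT N₀ q) b := by
  refine tensor_hom_ext fun W a s => ?_
  have e1 : ((tF N₀).map (thetaComp q b)).app W (tmulSec a s) =
      tmulSec a ((thetaComp q b).app W s) := tF_map_tmulSec (thetaComp q b) W a s
  have e2 := ProjFormula.pfApp_tmul g N₀ G W a ((thetaComp q b).app W s)
  have e3 : (qT N₀ q).app (g ⁻¹ᵁ W)
      (toSec K (g ⁻¹ᵁ W) b • pullSec g (CohB1.tensorMod N₀ E) (tmulSec a s)) =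
      tmulSec (pullSec g N₀ a) (ProjFormula.downSec g G ((thetaComp q b).app W s)) := by
    rw [(qT N₀ q).app_smul, qT_pullSec]
    refine Eq.trans (PicAux.tmulSec_smul_right _ _ _).symm ?_
    refine congrArg (tmulSec (pullSec g N₀ a)) ?_
    exact ((thetaComp_app q b W s).trans (q.app_smul _ _)).symm
  refine Eq.trans ?_ (thetaComp_app (qT N₀ q) b W (tmulSec a s)).symm
  refine Eq.trans ?_ e3.symm
  exact (congrArg ((ProjFormula.pfApp g N₀ G).app W) e1).trans e2

/-- The kernel of `theta`. -/
noncomputable abbrev filObj {E : X.Modules} {G : X'.Modules}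
    (q : (Scheme.Modules.pullback g).obj E ⟶ G) {n : ℕ} (b : Fin n → K) : X.Modules :=
  kernel (theta q b)

/-- The `i`-th projection of the twisted kernel. -/
noncomputable def filProj {E : X.Modules} {G : X'.Modules}
    (q : (Scheme.Modules.pullback g).obj E ⟶ G) {n : ℕ} (b : Fin n → K) (i : Fin n) :
    CohB1.tensorMod N₀ (filObj q b) ⟶ CohB1.tensorMod N₀ E :=
  (tF N₀).map (kernel.ι (theta q b) ≫ biproduct.π (fun _ : Fin n => E) i)

variable {E : X.Modules} {G : X'.Modules} (q : (Scheme.Modules.pullback g).obj E ⟶ G) {n : ℕ}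
  (b : Fin n → K)

theorem pf_tF_theta (W : X.Opens) (y : Γ(CohB1.tensorMod N₀ (⨁ fun _ : Fin n => E), W)) :
    ((ProjFormula.pfApp g N₀ G).app W (((tF N₀).map (theta q b)).app W y) :
      Γ(CohB1.tensorMod ((Scheme.Modules.pullback g).obj N₀) G, g ⁻¹ᵁ W)) =
      (qT N₀ q).app (g ⁻¹ᵁ W)
        (comb _ b fun i => ((tF N₀).map (biproduct.π (fun _ : Fin n => E) i)).app W y) := by
  conv_lhs => rw [← tF_total N₀ E W y]
  rw [map_sum]
  refine (map_sum ((ProjFormula.pfApp g N₀ G).app W).hom _ _).trans ?_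
  refine Eq.trans ?_ (map_sum ((qT N₀ q).app (g ⁻¹ᵁ W)).hom _ _).symm
  refine Finset.sum_congr rfl fun i _ => ?_
  set z := ((tF N₀).map (biproduct.π (fun _ : Fin n => E) i)).app W y
  have h : (tF N₀).map (biproduct.ι (fun _ : Fin n => E) i) ≫ (tF N₀).map (theta q b) ≫
      ProjFormula.pfApp g N₀ G = thetaComp (qT N₀ q) (b i) := by
    rw [← Category.assoc, ← Functor.map_comp, theta, biproduct.ι_desc, tF_map_thetaComp]
  exact (congr(($h).app W z)).trans (thetaComp_app (qT N₀ q) (b i) W z)

theorem filProj_injective (hN : FlatMod.IsFinLocFree N₀) (W : X.Opens)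
    (x x' : Γ(CohB1.tensorMod N₀ (filObj q b), W))
    (h : ∀ i, (filProj N₀ q b i).app W x = (filProj N₀ q b i).app W x') : x = x' := by
  have := (ProjFormula.preservesFinite_tF hN).1
  have : Mono ((tF N₀).map (kernel.ι (theta q b))) := inferInstance
  refine QCohMod.app_injective_of_mono ((tF N₀).map (kernel.ι (theta q b))) W ?_
  rw [← tF_total N₀ E W (((tF N₀).map (kernel.ι (theta q b))).app W x),
    ← tF_total N₀ E W (((tF N₀).map (kernel.ι (theta q b))).app W x')]
  refine Finset.sum_congr rfl fun i _ => ?_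
  have hi := h i
  rw [filProj, Functor.map_comp] at hi
  exact congrArg (((tF N₀).map (biproduct.ι (fun _ : Fin n => E) i)).app W) hi

theorem filProj_range (hN : FlatMod.IsFinLocFree N₀) (W : X.Opens)
    (v : Fin n → Γ(CohB1.tensorMod N₀ E, W)) :
    (∃ x, ∀ i, (filProj N₀ q b i).app W x = v i) ↔
      (qT N₀ q).app (g ⁻¹ᵁ W) (comb (g := g) _ b v) = 0 := by
  have := (ProjFormula.preservesFinite_tF hN).1
  have := ProjFormula.additive_tF N₀
  constructor
  · rintro ⟨x, hx⟩
    have h := pf_tF_theta N₀ q b W (((tF N₀).map (kernel.ι (theta q b))).app W x)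
    have h0 : ((tF N₀).map (theta q b)).app W (((tF N₀).map (kernel.ι (theta q b))).app W x) = 0 := by
      have e : (tF N₀).map (kernel.ι (theta q b)) ≫ (tF N₀).map (theta q b) = 0 := by
        rw [← Functor.map_comp, kernel.condition, Functor.map_zero]
      exact congr(($e).app W x)
    rw [h0] at h
    have hz : ((qT N₀ q).app (g ⁻¹ᵁ W)) (comb _ b fun i =>
        ((tF N₀).map (biproduct.π (fun _ : Fin n => E) i)).app W
          (((tF N₀).map (kernel.ι (theta q b))).app W x)) = 0 :=
      h.symm.trans (map_zero ((ProjFormula.pfApp g N₀ G).app W).hom)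
    refine Eq.trans ?_ hz
    refine congrArg (fun w => (qT N₀ q).app (g ⁻¹ᵁ W) (comb _ b w)) (funext fun i => ?_)
    rw [← hx i, filProj, Functor.map_comp]
    rfl
  · intro hv
    let y : Γ(CohB1.tensorMod N₀ (⨁ fun _ : Fin n => E), W) :=
      ∑ j, ((tF N₀).map (biproduct.ι (fun _ : Fin n => E) j)).app W (v j)
    have hy : ∀ i, ((tF N₀).map (biproduct.π (fun _ : Fin n => E) i)).app W y = v i := fun i => by
      refine (map_sum ((tF N₀).map (biproduct.π (fun _ : Fin n => E) i) |>.app W).hom _ _).trans ?_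
      rw [Finset.sum_eq_single i]
      · have e : (tF N₀).map (biproduct.ι (fun _ : Fin n => E) i) ≫
            (tF N₀).map (biproduct.π (fun _ : Fin n => E) i) = 𝟙 _ := by
          rw [← Functor.map_comp, biproduct.ι_π_self, CategoryTheory.Functor.map_id]
        exact congr(($e).app W (v i))
      · intro j _ hj
        have e : (tF N₀).map (biproduct.ι (fun _ : Fin n => E) j) ≫
            (tF N₀).map (biproduct.π (fun _ : Fin n => E) i) = 0 := by
          rw [← Functor.map_comp, biproduct.ι_π_ne _ hj, Functor.map_zero]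
        exact congr(($e).app W (v j))
      · intro h; exact absurd (Finset.mem_univ i) h
    have hpf := pf_tF_theta N₀ q b W y
    rw [funext hy, hv] at hpf
    have := ProjFormula.isIso_pfApp g N₀ hN G
    have h0 : ((tF N₀).map (theta q b)).app W y = 0 :=
      QCohMod.app_injective_of_mono (ProjFormula.pfApp g N₀ G) W (hpf.trans (map_zero _).symm)
    let S : ShortComplex X.Modules := ShortComplex.mk ((tF N₀).map (kernel.ι (theta q b)))
      ((tF N₀).map (theta q b)) (by rw [← Functor.map_comp, kernel.condition, Functor.map_zero])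
    have hS : S.Exact := (ShortComplex.exact_of_f_is_kernel
      (ShortComplex.mk _ (theta q b) (kernel.condition _)) (kernelIsKernel _)).map_of_mono_of_preservesKernel
        (tF N₀) inferInstance inferInstance
    have : Mono S.f := inferInstanceAs (Mono ((tF N₀).map (kernel.ι (theta q b))))
    obtain ⟨x, hx⟩ := QCohMod.exists_app_eq_of_mono_exact hS W y h0
    refine ⟨x, fun i => ?_⟩
    rw [filProj, Functor.map_comp, ← hy i, ← hx]
    rfl

end Groth.HilbStab.BC
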